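import Groth.Agent.Lib.CI2.AvramovMap
import Groth.Agent.Lib.CI2.BaseField
import Groth.Agent.Lib.CI2.Regular
import Groth.Agent.Lib.CI2.Smooth
import Mathlib.RingTheory.Finiteness.Nakayama
import Mathlib.RingTheory.Filtration
import Mathlib.RingTheory.Ideal.KrullsHeightTheorem

/-!
# Local rings which are approximated by Artinian complete intersections
-/

universe u

set_option linter.style.haveILetI false
set_option autoImplicit false

open IsLocalRing

namespace Groth.Agent.GrpCI19

/-- Generators of `I ≤ C` with `I ∩ mC ≤ mI` extend to minimal generators of `C`. -/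
theorem spanFinrank_add_le {P O : Type u} [CommRing P] [IsLocalRing P] [IsNoetherianRing P] [CommRing O]
    (π : P →+* O) (C : Ideal P) (hker : RingHom.ker π ≤ C)
    (hI : RingHom.ker π ⊓ maximalIdeal P * C ≤ maximalIdeal P * RingHom.ker π) :
    (RingHom.ker π).spanFinrank + (C.map π).spanFinrank ≤ C.spanFinrank := by
  classical
  set I := RingHom.ker π
  set m := maximalIdeal P
  letI : Field (P ⧸ m) := Ideal.Quotient.field m
  let N : Submodule P C := m • ⊤
  let V := (↥C) ⧸ N
  let q : C →ₗ[P] V := N.mkQ
  have hN : ∀ x : C, q x = 0 → (x : P) ∈ m * C := fun x hx => by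
    rw [Submodule.mkQ_apply, Submodule.Quotient.mk_eq_zero] at hx
    exact (Submodule.mem_smul_top_iff m C x).1 hx
  let IC : Submodule P C := Submodule.comap (Submodule.subtype C) I
  obtain ⟨T, hTI, hTspan, hTli⟩ := exists_linearIndependent (P ⧸ m) (q '' (IC : Set C))
  have hT' : LinearIndepOn (P ⧸ m) id T := hTli
  let B := hT'.extend (Set.subset_univ T)
  have hTB : T ⊆ B := hT'.subset_extend _
  have hBspan : Submodule.span (P ⧸ m) B = ⊤ := by
    refine eq_top_iff.2 fun v _ => ?_
    exact hT'.subset_span_extend _ (Set.mem_univ v)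
  haveI : Module.Finite P C := Module.Finite.of_fg (IsNoetherian.noetherian C)
  haveI : Module.Finite (P ⧸ m) V := Module.Finite.of_restrictScalars_finite P _ _
  have hBli : LinearIndepOn (P ⧸ m) id B := hT'.linearIndepOn_extend _
  have hBfin : B.Finite := hBli.setFinite
  have hsurj : ∀ v : V, ∃ x : C, q x = v ∧ (v ∈ T → (x : P) ∈ I) := fun v => by
    by_cases hv : v ∈ T
    · obtain ⟨x, hx, rfl⟩ := hTI hv
      exact ⟨x, rfl, fun _ => hx⟩
    · obtain ⟨x, rfl⟩ := N.mkQ_surjective v
      exact ⟨x, rfl, fun h => absurd h hv⟩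
  choose l hl hlI using hsurj
  have hspanP : ∀ (A : Set V) (x : C), q x ∈ Submodule.span (P ⧸ m) A →
      (x : P) ∈ Ideal.span ((fun v => (l v : P)) '' A) ⊔ m * C := by
    intro A x hx
    have hx' : q x ∈ Submodule.span P A := by
      rw [← Submodule.restrictScalars_span P (P ⧸ m) Ideal.Quotient.mk_surjective]
      exact hx
    rw [show A = q '' (l '' A) by rw [Set.image_image]; simp [hl], ← Submodule.map_span] at hx'
    obtain ⟨y, hy, hyx⟩ := hx'
    have hy' : (y : P) ∈ Ideal.span ((fun v => (l v : P)) '' A) := by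
      have h := Submodule.mem_map_of_mem (f := C.subtype) hy
      rw [Submodule.map_span, Set.image_image] at h
      exact h
    have h0 : q (x - y) = 0 := by rw [map_sub, hyx, sub_self]
    have e : (x : P) = (y : P) + ((x - y : C) : P) := by simp
    rw [e]
    exact add_mem (Ideal.mem_sup_left hy') (Ideal.mem_sup_right (hN _ h0))
  have hmjac : m ≤ (⊥ : Ideal P).jacobson := (IsLocalRing.jacobson_eq_maximalIdeal ⊥ bot_ne_top).ge
  -- generators of `I`
  let tP : Set P := (fun v => (l v : P)) '' T
  have htI : Ideal.span tP ≤ I := Ideal.span_le.2 (by rintro _ ⟨v, hv, rfl⟩; exact hlI v hv)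
  have hIgen : I ≤ Ideal.span tP := by
    refine Submodule.le_of_le_smul_of_le_jacobson_bot (IsNoetherian.noetherian I) hmjac fun x hx => ?_
    have hmem : q ⟨x, hker hx⟩ ∈ Submodule.span (P ⧸ m) T := by
      rw [hTspan]
      exact Submodule.subset_span ⟨⟨x, hker hx⟩, hx, rfl⟩
    obtain ⟨a, ha, b, hb, hab⟩ := Submodule.mem_sup.1 (hspanP T ⟨x, hker hx⟩ hmem)
    have hab' : a + b = x := hab
    have hbI : b ∈ I := by
      have : b = x - a := by rw [← hab']; ring
      rw [this]; exact sub_mem hx (htI ha)
    exact Submodule.mem_sup.2 ⟨a, ha, b, hI ⟨hbI, hb⟩, hab'⟩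
  -- generators of `C`
  have hCgen : C ≤ Ideal.span ((fun v => (l v : P)) '' B) := by
    refine Submodule.le_of_le_smul_of_le_jacobson_bot (IsNoetherian.noetherian C) hmjac fun x hx => ?_
    exact hspanP B ⟨x, hx⟩ (by rw [hBspan]; trivial)
  let U : Set O := (fun v => π (l v : P)) '' (B \ T)
  have hJ : C.map π = Ideal.span U := by
    refine le_antisymm ?_ (Ideal.span_le.2 ?_)
    · refine (Ideal.map_mono hCgen).trans ?_
      rw [Ideal.map_span, Ideal.span_le]
      rintro _ ⟨_, ⟨v, hv, rfl⟩, rfl⟩
      by_cases hvT : v ∈ T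
      · rw [show π (l v : P) = 0 from hlI v hvT]; exact zero_mem _
      · exact Ideal.subset_span ⟨v, ⟨hv, hvT⟩, rfl⟩
    · rintro _ ⟨v, -, rfl⟩
      exact Ideal.mem_map_of_mem π (l v).2
  have h1 : I.spanFinrank ≤ T.ncard := by
    rw [le_antisymm hIgen htI]
    exact (Submodule.spanFinrank_span_le_ncard_of_finite ((hBfin.subset hTB).image _)).trans
      (Set.ncard_image_le (hBfin.subset hTB))
  have h2 : (C.map π).spanFinrank ≤ (B \ T).ncard := by
    rw [hJ]
    exact (Submodule.spanFinrank_span_le_ncard_of_finite (hBfin.sdiff.image _)).trans (Set.ncard_image_le hBfin.sdiff)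
  have h3 : B.ncard ≤ C.spanFinrank := by
    let G : Set P := Submodule.generators C
    have hGfin : G.Finite := (IsNoetherian.noetherian C).finite_generators
    have hGmem : ∀ g ∈ G, g ∈ C := fun g hg => by
      have h : Submodule.span P G = C := C.span_generators
      exact h.le (Submodule.subset_span hg)
    let G' : Set C := Subtype.val ⁻¹' G
    have hG'fin : G'.Finite := hGfin.preimage Subtype.val_injective.injOn
    have hG'top : Submodule.span P G' = ⊤ := by
      apply Submodule.map_injective_of_injective C.injective_subtype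
      rw [Submodule.map_span, Submodule.map_subtype_top]
      have e : C.subtype '' G' = G := by
        ext g
        exact ⟨by rintro ⟨y, hy, rfl⟩; exact hy, fun hg => ⟨⟨g, hGmem g hg⟩, hg, rfl⟩⟩
      rw [e]; exact C.span_generators
    have htop : Submodule.span (P ⧸ m) (q '' G') = ⊤ := by
      apply Submodule.restrictScalars_injective P
      rw [Submodule.restrictScalars_span P (P ⧸ m) Ideal.Quotient.mk_surjective, ← Submodule.map_span, hG'top,
        Submodule.map_top, Submodule.range_mkQ, Submodule.restrictScalars_top]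
    let bB : Module.Basis B (P ⧸ m) V := Module.Basis.mk hBli (by simp [hBspan])
    haveI := hBfin.fintype
    haveI := (hG'fin.image q).fintype
    calc B.ncard = Fintype.card B := by rw [← Nat.card_eq_fintype_card, Nat.card_coe_set_eq]
      _ = Module.finrank (P ⧸ m) V := (Module.finrank_eq_card_basis bB).symm
      _ ≤ (q '' G').toFinset.card := by
        rw [← finrank_top (P ⧸ m) V, ← htop]; exact finrank_span_le_card _
      _ = (q '' G').ncard := (Set.ncard_eq_toFinset_card' _).symm
      _ ≤ G'.ncard := Set.ncard_image_le hG'fin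
      _ ≤ G.ncard := by
        rw [← Set.ncard_image_of_injective G' Subtype.val_injective]
        exact Set.ncard_le_ncard (Set.image_preimage_subset _ _) hGfin
      _ = C.spanFinrank := (IsNoetherian.noetherian C).generators_ncard
  have h4 : T.ncard + (B \ T).ncard = B.ncard := by
    rw [add_comm, Set.ncard_sdiff_add_ncard_of_subset hTB hBfin]
  omega

/-- A quotient of a regular local ring whose quotients by deep primary ideals are complete intersections
is a complete intersection. -/
theorem ci_of_ci_quotients {O : Type u} [CommRing O] [IsLocalRing O] [IsNoetherianRing O]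
    (h : ∀ n : ℕ, ∃ J : Ideal O, J ≤ maximalIdeal O ^ n ∧ J ≠ ⊤ ∧ maximalIdeal O ∈ J.minimalPrimes ∧
      ∃ _ : IsLocalRing (O ⧸ J), Pi1.IsCompleteIntersection (O ⧸ J))
    {P : Type u} [CommRing P] [IsRegularLocalRing P] (π : P →+* O) (hπ : Function.Surjective π) :
    Pi1.IsCompleteIntersection O := by
  haveI : LocCoh.IsCohenMacaulayLocalRing P := DepthLib.isCohenMacaulayLocalRing_of_isRegularLocalRing
  set I := RingHom.ker π with hIdef
  have hI : I ≠ ⊤ := RingHom.ker_ne_top π
  obtain ⟨k, hk⟩ := (maximalIdeal P).exists_pow_inf_eq_pow_smul (N := (I : Submodule P P))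
  obtain ⟨J, hJn, hJne, hJmin, hloc, hJci⟩ := h (k + 1)
  haveI := hloc
  let C := J.comap π
  have hCI : I ≤ C := Ideal.comap_mono bot_le
  have hAR : I ⊓ maximalIdeal P * C ≤ maximalIdeal P * I := by
    have hC : C ≤ I ⊔ maximalIdeal P ^ (k + 1) := by
      refine (Ideal.comap_mono hJn).trans ?_
      haveI : IsLocalHom π := hπ.isLocalHom
      rw [← IsLocalRing.map_maximalIdeal_of_surjective π hπ, ← Ideal.map_pow, Ideal.comap_map_of_surjective π hπ, sup_comm]
      exact le_rfl
    refine (inf_le_inf_left I ((Ideal.mul_mono_right hC).trans_eq (Ideal.mul_sup _ _ _))).trans ?_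
    rw [inf_comm]
    rw [sup_inf_assoc_of_le _ (Ideal.mul_le_right : maximalIdeal P * I ≤ I)]
    refine sup_le le_rfl ?_
    rw [← pow_succ']
    have e := hk (k + 1 + 1) (by omega)
    simp only [smul_eq_mul, Ideal.mul_top] at e
    rw [e, show k + 1 + 1 - k = 2 from by omega]
    exact Ideal.mul_mono (Ideal.pow_le_self (by norm_num)) inf_le_right
  have hsum := spanFinrank_add_le π C hCI hAR
  rw [Ideal.map_comap_of_surjective π hπ] at hsum
  -- the complete intersection quotient
  let f : P →+* O ⧸ J := (Ideal.Quotient.mk J).comp π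
  have hfs : Function.Surjective f := Ideal.Quotient.mk_surjective.comp hπ
  have hfk : RingHom.ker f = C := by
    ext x; simp [f, C, RingHom.mem_ker, Ideal.Quotient.eq_zero_iff_mem]
  have hCne : C ≠ ⊤ := hfk ▸ RingHom.ker_ne_top f
  have hCreg : CInt.IsRegularIdeal C := hfk ▸ (CI2.ci_iff_ker f hfs).1 hJci
  obtain ⟨c, hc⟩ := CI2.exists_dim_nat P
  obtain ⟨d, hd⟩ := CI2.exists_dim_nat O
  have hCle : C.spanFinrank ≤ c := by
    have h1 := (CI2.isRegularIdeal_iff_spanFinrank C hCne).1 hCreg
    have h2 : ringKrullDim (P ⧸ C) = ringKrullDim (O ⧸ J) :=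
      ringKrullDim_eq_of_ringEquiv ((Ideal.quotEquivOfEq hfk.symm).trans (RingHom.quotientKerEquivOfSurjective hfs))
    obtain ⟨e, he⟩ := CI2.exists_dim_nat (O ⧸ J)
    rw [hc, h2, he] at h1
    have : C.spanFinrank + e ≤ c := by exact_mod_cast h1
    omega
  have hdJ : d ≤ J.spanFinrank := by
    have h1 : (maximalIdeal O).height ≤ (J.spanFinrank : ℕ∞) := by
      refine le_trans ?_ (J.height_le_spanFinrank hJne)
      rw [Ideal.height_eq_inf_minimalPrimes (I := J)]
      refine le_iInf₂ fun q hq => ?_
      have hqm : q ≤ maximalIdeal O := IsLocalRing.le_maximalIdeal hq.1.1.ne_top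
      have : maximalIdeal O ≤ q := hJmin.2 ⟨hq.1.1, hq.1.2⟩ hqm
      rw [le_antisymm hqm this]
    have h2 := IsLocalRing.maximalIdeal_height_eq_ringKrullDim (R := O)
    rw [hd] at h2
    have h3 : ((maximalIdeal O).height : WithBot ℕ∞) ≤ ((J.spanFinrank : ℕ∞) : WithBot ℕ∞) := WithBot.coe_le_coe.2 h1
    rw [h2] at h3
    exact_mod_cast h3
  rw [CI2.ci_iff_ker π hπ, CI2.isRegularIdeal_iff_spanFinrank _ hI]
  rw [ringKrullDim_eq_of_ringEquiv (RingHom.quotientKerEquivOfSurjective hπ), hc, hd]
  rw [← hIdef] at hsum
  exact_mod_cast (by omega : I.spanFinrank + d ≤ c)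

/-- Truncated polynomial algebras are complete intersections. -/
theorem ci_truncated (k : Type u) [Field k] {r : ℕ} (q : Fin r → ℕ) (A : Type u) [CommRing A] [IsLocalRing A]
    [Algebra k A] [Module.Finite k A]
    (e : A ≃ₐ[k] (MvPolynomial (Fin r) k ⧸ Ideal.span (Set.range fun i : Fin r => (MvPolynomial.X i : MvPolynomial (Fin r) k) ^ q i))) :
    Pi1.IsCompleteIntersection A := by
  haveI : IsNoetherianRing A := IsNoetherianRing.of_finite k A
  let K := Ideal.span (Set.range fun i : Fin r => (MvPolynomial.X i : MvPolynomial (Fin r) k) ^ q i)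
  let f : MvPolynomial (Fin r) k →+* A := e.symm.toRingEquiv.toRingHom.comp (Ideal.Quotient.mk K)
  have hf : Function.Surjective f := e.symm.surjective.comp Ideal.Quotient.mk_surjective
  have hk : RingHom.ker f = K := by
    ext x; simp [f, RingHom.mem_ker, Ideal.Quotient.eq_zero_iff_mem]
  let M := (maximalIdeal A).comap f
  haveI : M.IsMaximal := Ideal.comap_isMaximal_of_surjective f hf
  obtain ⟨hs, hker⟩ := CI2.localRingHom_surj_ker f hf (maximalIdeal A)
  let P := Localization.AtPrime M
  haveI : IsRegularLocalRing P := inferInstance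
  let ι : A ≃ₐ[A] Localization.AtPrime (maximalIdeal A) := IsLocalization.atUnits A (maximalIdeal A).primeCompl
    (fun x hx => by
      exact not_not.1 fun hn => hx hn)
  let g : P →+* A := ι.symm.toRingEquiv.toRingHom.comp (Localization.localRingHom M (maximalIdeal A) f rfl)
  have hg : Function.Surjective g := ι.symm.surjective.comp hs
  haveI : LocCoh.IsCohenMacaulayLocalRing P := DepthLib.isCohenMacaulayLocalRing_of_isRegularLocalRing
  rw [CI2.ci_iff_ker g hg, CI2.isRegularIdeal_iff_spanFinrank _ (RingHom.ker_ne_top g)]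
  have hP : ringKrullDim P = r := by
    rw [IsLocalization.AtPrime.ringKrullDim_eq_height M P, CI2.height_maximal_mvPolynomial M]
    rfl
  have hA : ringKrullDim A ≤ 0 := by
    haveI : IsArtinianRing A := IsArtinianRing.of_finite k A
    exact Ring.krullDimLE_iff.1 inferInstance
  have hgk : (RingHom.ker g).spanFinrank ≤ r := by
    have h : RingHom.ker g = K.map (algebraMap (MvPolynomial (Fin r) k) P) := by
      rw [RingHom.ker_comp_of_injective _ ι.symm.injective, hker, hk]
    rw [h, Ideal.map_span]
    refine (Submodule.spanFinrank_span_le_ncard_of_finite ((Set.finite_range _).image _)).trans ?_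
    refine (Set.ncard_image_le (Set.finite_range _)).trans ?_
    rw [← Set.image_univ]
    exact (Set.ncard_image_le Set.finite_univ).trans_eq (by simp)
  rw [ringKrullDim_eq_of_ringEquiv (RingHom.quotientKerEquivOfSurjective hg), hP]
  exact (add_le_add (by exact_mod_cast hgk) hA).trans_eq (add_zero _)

/-- Localizations of algebras of finite type over a field are quotients of regular local rings. -/
theorem exists_regular_surjection_atPrime {k : Type u} [Field k] {n : ℕ} {A : Type u} [CommRing A] (f : MvPolynomial (Fin n) k →+* A)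
    (hf : Function.Surjective f) (q : Ideal A) [q.IsPrime] :
    ∃ (P : Type u) (_ : CommRing P) (_ : IsRegularLocalRing P) (π : P →+* Localization.AtPrime q),
      Function.Surjective π := by
  let M := q.comap f
  haveI : M.IsPrime := Ideal.comap_isPrime f q
  haveI : IsRegularLocalRing (Localization.AtPrime M) := inferInstance
  exact ⟨Localization.AtPrime M, inferInstance, ‹_›, Localization.localRingHom M q f rfl,
    (CI2.localRingHom_surj_ker f hf q).1⟩

end Groth.Agent.GrpCI19
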