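import Groth.Agent.Lib.GrpCI19.Algebra
import Groth.Agent.Lib.AbRigid.Image
import Groth.Agent.Lib.GrpFin20.Proper
import Groth.Agent.S7949
import Mathlib.AlgebraicGeometry.Group.Affine
import Mathlib.AlgebraicGeometry.Stalk
import Mathlib.RingTheory.HopkinsLevitzki

/-!
# Frobenius neighbourhoods of the unit of a group scheme and complete intersections
-/

universe u

open CategoryTheory Limits MonoidalCategory CartesianMonoidalCategory AlgebraicGeometry Opposite
open scoped MonObj GrpObj TensorProduct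

set_option linter.style.haveILetI false
set_option backward.isDefEq.respectTransparency false

namespace Groth.Agent.GrpCI19

section Algebra

variable {k : Type u} [Field k]

/-- An algebra with a retraction onto `k` through which all `q`-th powers factor. -/
def IsInf (q : ℕ) (B : Type u) [CommRing B] [Algebra k B] : Prop :=
  ∃ ε : B →ₐ[k] k, ∀ x, x ^ q = algebraMap k B (ε x ^ q)

variable {B : Type u} [CommRing B] [Algebra k B] {q : ℕ}

theorem IsInf.nontrivial (h : IsInf (k := k) q B) : Nontrivial B := by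
  obtain ⟨ε, -⟩ := h
  exact ε.toRingHom.domain_nontrivial

theorem IsInf.isLocalRing (h : IsInf (k := k) q B) (hq : q ≠ 0) : IsLocalRing B := by
  haveI := h.nontrivial
  obtain ⟨ε, hε⟩ := h
  have key : ∀ x, ε x ≠ 0 → IsUnit x := fun x hx => by
    refine (isUnit_pow_iff hq).1 ?_
    rw [hε x]
    exact (isUnit_iff_ne_zero.2 (pow_ne_zero q hx)).map _
  refine IsLocalRing.of_isUnit_or_isUnit_one_sub_self fun x => ?_
  rcases eq_or_ne (ε x) 0 with h0 | h0
  · exact Or.inr (key _ (by rw [map_sub, map_one, h0, sub_zero]; exact one_ne_zero))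
  · exact Or.inl (key _ h0)

theorem IsInf.pow_eq_zero (h : IsInf (k := k) q B) [IsLocalRing B] (hq : q ≠ 0) {b : B}
    (hb : b ∈ IsLocalRing.maximalIdeal B) : b ^ q = 0 := by
  obtain ⟨ε, hε⟩ := h
  have h0 : ε b = 0 := by
    by_contra hne
    refine hb ((isUnit_pow_iff hq).1 ?_)
    rw [hε b]
    exact (isUnit_iff_ne_zero.2 (pow_ne_zero q hne)).map _
  rw [hε b, h0, zero_pow hq, map_zero]

theorem IsInf.subsingleton (h : IsInf (k := k) q B) (hq : q ≠ 0) : Subsingleton (PrimeSpectrum B) := by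
  haveI := h.isLocalRing hq
  have : ∀ P : PrimeSpectrum B, P = IsLocalRing.closedPoint B := fun P => by
    refine PrimeSpectrum.ext (le_antisymm (IsLocalRing.le_maximalIdeal P.isPrime.ne_top) fun b hb => ?_)
    exact P.isPrime.mem_of_pow_mem q (by rw [h.pow_eq_zero hq hb]; exact zero_mem _)
  exact ⟨fun P P' => (this P).trans (this P').symm⟩

theorem IsInf.tensor (p N : ℕ) [Fact p.Prime] [CharP k p] {A : Type u} [CommRing A] [Algebra k A]
    (h : IsInf (k := k) (p ^ N) A) (h' : IsInf (k := k) (p ^ N) B) : IsInf (k := k) (p ^ N) (A ⊗[k] B) := by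
  obtain ⟨ε, hε⟩ := h
  obtain ⟨δ, hδ⟩ := h'
  let θ : A ⊗[k] B →ₐ[k] k := Algebra.TensorProduct.lift ε δ fun _ _ => Commute.all _ _
  haveI : Nontrivial (A ⊗[k] B) := θ.toRingHom.domain_nontrivial
  haveI : CharP (A ⊗[k] B) p := charP_of_injective_algebraMap (algebraMap k (A ⊗[k] B)).injective p
  haveI : ExpChar (A ⊗[k] B) p := ExpChar.prime Fact.out
  haveI : ExpChar k p := ExpChar.prime Fact.out
  refine ⟨θ, fun x => ?_⟩
  induction x using TensorProduct.induction_on with
  | zero => rw [map_zero, zero_pow (pow_ne_zero N (Fact.out : p.Prime).ne_zero), zero_pow (pow_ne_zero N (Fact.out : p.Prime).ne_zero), map_zero]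
  | tmul a b =>
    rw [show θ (a ⊗ₜ[k] b) = ε a * δ b from Algebra.TensorProduct.lift_tmul _ _ _ a b, mul_pow, map_mul,
      Algebra.TensorProduct.tmul_pow, hε a, hδ b, Algebra.TensorProduct.algebraMap_apply,
      Algebra.TensorProduct.algebraMap_apply', Algebra.TensorProduct.tmul_mul_tmul, mul_one, one_mul]
  | add x y hx hy => rw [add_pow_expChar_pow, hx, hy, ← map_add, ← add_pow_expChar_pow, ← map_add]

end Algebra

section Geometry

variable {k : Type u} [Field k] {X : Scheme.{u}}

/-- Factorisation of an infinitesimal point through a closed neighbourhood of the point in the stalk. -/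
theorem exists_lift_stalk {B : Type u} [CommRing B] [IsLocalRing B] (g : Spec (CommRingCat.of B) ⟶ X) (x : X)
    (hg : g (IsLocalRing.closedPoint B) = x) (q : ℕ) (hB : ∀ b ∈ IsLocalRing.maximalIdeal B, b ^ q = 0) :
    ∃ l : Spec (CommRingCat.of B) ⟶ Spec (CommRingCat.of (X.presheaf.stalk x ⧸
        Ideal.span ((fun a => a ^ q) '' (IsLocalRing.maximalIdeal (X.presheaf.stalk x) : Set _)))),
      l ≫ Spec.map (CommRingCat.ofHom (Ideal.Quotient.mk _)) ≫ X.fromSpecStalk x = g := by
  subst hg
  let φ := Scheme.stalkClosedPointTo g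
  let m₀ : Ideal (X.presheaf.stalk (g (IsLocalRing.closedPoint B))) := IsLocalRing.maximalIdeal _
  let J := Ideal.span ((fun a => a ^ q) '' (SetLike.coe m₀))
  have hJ : ∀ a ∈ J, φ.hom a = 0 := by
    show J ≤ RingHom.ker φ.hom
    rw [Ideal.span_le]
    rintro _ ⟨a, ha, rfl⟩
    show φ.hom (a ^ q) = 0
    rw [map_pow]
    exact hB _ (map_nonunit φ.hom a ha)
  refine ⟨Spec.map (CommRingCat.ofHom (Ideal.Quotient.lift J φ.hom hJ)), ?_⟩
  rw [← Category.assoc, ← Spec.map_comp]
  have e : CommRingCat.ofHom (Ideal.Quotient.mk J) ≫ CommRingCat.ofHom (Ideal.Quotient.lift J φ.hom hJ) = φ := by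
    ext1
    exact Ideal.Quotient.lift_comp_mk J φ.hom hJ
  rw [e]
  exact Scheme.Spec_stalkClosedPointTo_fromSpecStalk g

variable (p : ℕ) [Fact p.Prime] [CharP k p] [PerfectField k]
  (G : Over (Spec (CommRingCat.of k))) [GrpObj G] [LocallyOfFiniteType G.hom]

include p in
/-- The local ring at the unit of a group scheme over a perfect field of positive characteristic is a
complete intersection, given a surjection from a regular local ring onto it. -/
theorem ci_stalk_unit {P : Type u} [CommRing P] [IsRegularLocalRing P]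
    (π : P →+* G.left.presheaf.stalk (η[G].left (IsLocalRing.closedPoint k))) (hπ : Function.Surjective π) :
    Pi1.IsCompleteIntersection (G.left.presheaf.stalk (η[G].left (IsLocalRing.closedPoint k))) := by
  let σ : Spec (CommRingCat.of k) ⟶ G.left := η[G].left
  have hσ : σ ≫ G.hom = 𝟙 _ := Over.w η[G]
  let x₀ : G.left := σ (IsLocalRing.closedPoint k)
  let O := G.left.presheaf.stalk x₀
  haveI : IsLocallyNoetherian G.left := LocallyOfFiniteType.isLocallyNoetherian G.hom
  let φk : CommRingCat.of k ⟶ O := Spec.preimage (G.left.fromSpecStalk x₀ ≫ G.hom)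
  letI : Algebra k O := φk.hom.toAlgebra
  let ε₀ : O →+* k := (Scheme.stalkClosedPointTo σ).hom
  have hε₀c : ∀ c, ε₀ (algebraMap k O c) = c := by
    have h : φk ≫ Scheme.stalkClosedPointTo σ = 𝟙 (CommRingCat.of k) := by
      apply Spec.map_injective
      rw [Spec.map_comp, Spec.map_preimage, Spec.map_id, ← Category.assoc,
        Scheme.Spec_stalkClosedPointTo_fromSpecStalk]
      exact hσ
    exact fun c => congrArg (fun f : CommRingCat.of k ⟶ CommRingCat.of k => f.hom c) h
  have hm : IsLocalRing.maximalIdeal O = RingHom.ker ε₀ :=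
    (IsLocalRing.eq_maximalIdeal (RingHom.ker_isMaximal_of_surjective ε₀ fun c => ⟨_, hε₀c c⟩)).symm
  have hp := (Fact.out : p.Prime)
  refine ci_of_ci_quotients (fun n => ?_) π hπ
  obtain ⟨N, hN⟩ : ∃ N, n + 1 ≤ p ^ N := ⟨n + 1, (Nat.lt_pow_self hp.one_lt).le⟩
  let q := p ^ N
  have hq : q ≠ 0 := pow_ne_zero N hp.ne_zero
  let J := Ideal.span ((fun a => a ^ q) '' (IsLocalRing.maximalIdeal O : Set O))
  have hJn : J ≤ IsLocalRing.maximalIdeal O ^ n := by
    rw [Ideal.span_le]
    rintro _ ⟨a, ha, rfl⟩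
    exact Ideal.pow_le_pow_right ((Nat.le_succ n).trans hN) (Ideal.pow_mem_pow ha q)
  have hJm : J ≤ IsLocalRing.maximalIdeal O := by
    rw [Ideal.span_le]
    rintro _ ⟨a, ha, rfl⟩
    exact Ideal.pow_mem_of_mem _ ha q (Nat.pos_of_ne_zero hq)
  have hJne : J ≠ ⊤ := fun h => (IsLocalRing.maximalIdeal.isMaximal O).ne_top (top_le_iff.1 (h ▸ hJm))
  have hJmin : IsLocalRing.maximalIdeal O ∈ J.minimalPrimes :=
    ⟨⟨inferInstance, hJm⟩, fun Q hQ _ a ha => hQ.1.mem_of_pow_mem q (hQ.2 (Ideal.subset_span ⟨a, ha, rfl⟩))⟩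
  let A := O ⧸ J
  let ε : A →ₐ[k] k := Ideal.Quotient.liftₐ J ⟨ε₀, hε₀c⟩ (fun a ha => by
    have h := hJm ha
    rw [hm] at h
    exact h)
  haveI : Nontrivial A := Ideal.Quotient.nontrivial_iff.2 hJne
  have hA : IsInf (k := k) q A := by
    refine ⟨ε, fun x => ?_⟩
    obtain ⟨a, rfl⟩ := Ideal.Quotient.mk_surjective x
    haveI : CharP O p := charP_of_injective_algebraMap (algebraMap k O).injective p
    haveI : ExpChar O p := ExpChar.prime hp
    have hmem : a - algebraMap k O (ε₀ a) ∈ IsLocalRing.maximalIdeal O := by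
      rw [hm, RingHom.mem_ker, map_sub, hε₀c, sub_self]
    have h2 : (a - algebraMap k O (ε₀ a)) ^ q ∈ J := Ideal.subset_span ⟨_, hmem, rfl⟩
    rw [show q = p ^ N from rfl, sub_pow_expChar_pow] at h2
    rw [← Ideal.Quotient.eq, map_pow, map_pow] at h2
    rw [h2, map_pow]
    rfl
  haveI hAloc : IsLocalRing A := hA.isLocalRing hq
  refine ⟨J, hJn, hJne, hJmin, hAloc, ?_⟩
  -- finiteness
  haveI : IsNoetherianRing O := inferInstance
  haveI : Ring.KrullDimLE 0 A := Ring.KrullDimLE.mk₀ fun Q hQ => by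
    have h := hA.subsingleton hq
    have e : (⟨Q, hQ⟩ : PrimeSpectrum A) = IsLocalRing.closedPoint A := h.elim _ _
    rw [show Q = IsLocalRing.maximalIdeal A from congrArg PrimeSpectrum.asIdeal e]
    exact IsLocalRing.maximalIdeal.isMaximal A
  haveI : IsArtinianRing A := isArtinianRing_iff_isNoetherianRing_krullDimLE_zero.2 ⟨inferInstance, inferInstance⟩
  haveI : Module.Finite k A := by
    haveI : Module.Finite k (A ⧸ Ring.jacobson A) := by
      refine Module.Finite.of_surjective (Algebra.linearMap k (A ⧸ Ring.jacobson A)) fun y => ?_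
      obtain ⟨a, rfl⟩ := Ideal.Quotient.mk_surjective y
      refine ⟨ε a, ?_⟩
      rw [Algebra.linearMap_apply, ← Ideal.Quotient.mk_algebraMap, Ideal.Quotient.eq,
        IsLocalRing.ringJacobson_eq_maximalIdeal]
      refine fun hu => one_ne_zero (α := k) ?_
      have h0 : ε (algebraMap k A (ε a) - a) = 0 := by rw [map_sub, AlgHom.commutes]; exact sub_self _
      exact absurd (hu.map ε) (by rw [h0]; exact not_isUnit_zero)
    exact IsSemiprimaryRing.finite_of_isArtinian k A A
  -- the group structure on `Spec A`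
  let ι₀ : Spec (CommRingCat.of A) ⟶ G.left :=
    Spec.map (CommRingCat.ofHom (Ideal.Quotient.mk J)) ≫ G.left.fromSpecStalk x₀
  have hι₀ : ι₀ ≫ G.hom = Spec.map (CommRingCat.ofHom (algebraMap k A)) := by
    show (Spec.map _ ≫ _) ≫ G.hom = _
    rw [Category.assoc, ← Spec.map_preimage (G.left.fromSpecStalk x₀ ≫ G.hom), ← Spec.map_comp]
    rfl
  let X : Over (Spec (CommRingCat.of k)) := Over.mk (Spec.map (CommRingCat.ofHom (algebraMap k A)))
  let i : X ⟶ G := Over.homMk ι₀ hι₀
  haveI : Mono i.left := by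
    haveI : Mono (Spec.map (CommRingCat.ofHom (Ideal.Quotient.mk J))) := inferInstance
    show Mono (Spec.map _ ≫ G.left.fromSpecStalk x₀)
    exact mono_comp _ _
  haveI : Mono i := (Over.forget _).mono_of_mono_map (f := i) (inferInstanceAs (Mono i.left))
  have hlift : ∀ (T : Over (Spec (CommRingCat.of k))) (B : Type u) [CommRing B] [Algebra k B]
      (_ : IsInf (k := k) q B) (j : Spec (CommRingCat.of B) ⟶ T.left) [IsIso j] (g : T ⟶ G),
      (∀ t, g.left t = x₀) → ∃ l : T ⟶ X, l ≫ i = g := by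
    intro T B _ _ hB j _ g hg
    haveI := hB.isLocalRing hq
    obtain ⟨l, hl⟩ := exists_lift_stalk (j ≫ g.left) x₀ (by rw [Scheme.Hom.comp_apply]; exact hg _) q
      (fun b hb => hB.pow_eq_zero hq hb)
    have hl' : (inv j ≫ l) ≫ ι₀ = g.left := by
      rw [Category.assoc, hl, IsIso.inv_hom_id_assoc]
    refine ⟨Over.homMk (inv j ≫ l) ?_, Over.OverMorphism.ext hl'⟩
    show (inv j ≫ l) ≫ Spec.map _ = T.hom
    rw [← hι₀, ← Category.assoc, hl', Over.w g]
  have hk : IsInf (k := k) q k := ⟨AlgHom.id k k, fun x => rfl⟩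
  have hone : ∀ t, η[G].left t = x₀ := fun t =>
    congrArg σ (Subsingleton.elim (α := PrimeSpectrum k) _ _)
  obtain ⟨e, he⟩ := hlift (𝟙_ _) k hk (𝟙 _) η[G] hone
  have hsub : Subsingleton X.left := hA.subsingleton hq
  obtain ⟨v, hv⟩ := hlift X A hA (𝟙 _) (i ≫ ι[G]) (fun t => by
    have ht : t = e.left (IsLocalRing.closedPoint k) := hsub.elim _ _
    rw [ht, ← Scheme.Hom.comp_apply, ← Over.comp_left, ← Category.assoc, he, GrpFin20.ι_eq_inv,
      MonObj.one_eq_one, inv_one, ← MonObj.one_eq_one]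
    exact hone _)
  let j : Spec (CommRingCat.of (A ⊗[k] A)) ⟶ (X ⊗ X).left := (pullbackSpecIso k A A).inv
  obtain ⟨m, hm'⟩ := hlift (X ⊗ X) (A ⊗[k] A) (hA.tensor p N hA) j ((i ⊗ₘ i) ≫ μ[G]) (fun t => by
    haveI : Subsingleton (X ⊗ X).left := by
      haveI : Subsingleton (Spec (CommRingCat.of (A ⊗[k] A))) := (hA.tensor p N hA).subsingleton hq
      exact (pullbackSpecIso k A A).hom.homeomorph.toEquiv.subsingleton
    have ht : t = (lift e e).left (IsLocalRing.closedPoint k) := Subsingleton.elim _ _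
    rw [ht, ← Scheme.Hom.comp_apply, ← Over.comp_left, ← Category.assoc, lift_map, he, ← Hom.mul_def,
      MonObj.one_eq_one, one_mul, ← MonObj.one_eq_one]
    exact hone _)
  letI : GrpObj X := AbRigid.grpObjOfMono i e he m hm' v hv
  haveI : IsAffine X.left := inferInstanceAs (IsAffine (Spec (CommRingCat.of A)))
  obtain ⟨⟨H⟩, ⟨eH⟩⟩ := (essImage_hopfSpec (R := CommRingCat.of k)).2
    (show IsAffine (Grp.mk X).X.left from inferInstance)
  let f : ((hopfSpec (CommRingCat.of k)).obj (op H)).X ≅ X := (Grp.forget _).mapIso eH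
  let fl : Spec (CommRingCat.of H) ⟶ Spec (CommRingCat.of A) := f.hom.left
  let ψ : CommRingCat.of A ⟶ CommRingCat.of H := Spec.preimage fl
  haveI : IsIso fl := inferInstanceAs (IsIso ((Over.forget _).map f.hom))
  haveI : IsIso ψ := by
    haveI : IsIso (Scheme.Spec.map ψ.op) := by
      show IsIso (Spec.map ψ)
      rw [Spec.map_preimage]; infer_instance
    haveI : IsIso ψ.op := isIso_of_reflects_iso ψ.op Scheme.Spec
    exact isIso_of_op ψ
  have hψ : ∀ c : k, ψ.hom (algebraMap k A c) = algebraMap k H c := by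
    have h : CommRingCat.ofHom (algebraMap k A) ≫ ψ = CommRingCat.ofHom (algebraMap k H) := by
      apply Spec.map_injective
      rw [Spec.map_comp, Spec.map_preimage]
      exact Over.w f.hom
    exact fun c => congrArg (fun g : CommRingCat.of k ⟶ CommRingCat.of H => g.hom c) h
  let E : A ≃ₐ[k] H := { (asIso ψ).commRingCatIsoToRingEquiv with commutes' := hψ }
  haveI : Module.Finite k H := Module.Finite.equiv E.toLinearEquiv
  haveI : IsLocalRing H := E.toRingEquiv.isLocalRing
  obtain ⟨r, ee, -, ⟨e₂⟩⟩ := S7949.result k H p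
  exact ci_truncated k (fun i => p ^ ee i) A (E.trans e₂)

end Geometry

end Groth.Agent.GrpCI19
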