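import Groth.Agent.Lib.GrpCI19.Frob
import Groth.Agent.Lib.CI2.BaseFieldScheme
import Groth.Agent.Lib.Cyc26.PullDiv
import Groth.Agent.Lib.WeilExt.Apply
import Groth.Agent.S0353
import Groth.Agent.S2168
import Groth.Agent.S8660
import Groth.Agent.S9758
import Mathlib.AlgebraicGeometry.AlgClosed.Basic
import Mathlib.FieldTheory.IsAlgClosed.AlgebraicClosure

/-!
# Group schemes flat and of finite presentation are syntomic
-/

universe u

open CategoryTheory Limits MonoidalCategory CartesianMonoidalCategory AlgebraicGeometry
open scoped MonObj GrpObj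

set_option linter.style.haveILetI false
set_option backward.isDefEq.respectTransparency false

namespace Groth.Agent.GrpCI19

variable {k : Type u} [Field k]

/-- Local rings of schemes locally of finite type over a field are quotients of regular local rings. -/
theorem exists_regular_surjection {X : Scheme.{u}} (f : X ⟶ Spec (CommRingCat.of k)) [LocallyOfFiniteType f] (x : X) :
    ∃ (P : Type u) (_ : CommRing P) (_ : IsRegularLocalRing P) (π : P →+* X.presheaf.stalk x),
      Function.Surjective π := by
  obtain ⟨U, hU, hxU, -⟩ := exists_isAffineOpen_mem_and_subset (X := X) (U := ⊤) (x := x) trivial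
  obtain ⟨ψ, hψ⟩ := Spec.map_surjective (hU.fromSpec ≫ f)
  letI : Algebra k Γ(X, U) := ψ.hom.toAlgebra
  haveI : Algebra.FiniteType k Γ(X, U) := by
    have h : LocallyOfFiniteType (Spec.map ψ) := hψ ▸ inferInstance
    exact (HasRingHomProperty.Spec_iff (P := @LocallyOfFiniteType)).1 h
  obtain ⟨n, φ, hφ⟩ := Algebra.FiniteType.iff_quotient_mvPolynomial''.1 ‹Algebra.FiniteType k Γ(X, U)›
  let p := hU.primeIdealOf ⟨x, hxU⟩
  letI := X.presheaf.algebra_section_stalk ⟨x, hxU⟩
  haveI : IsLocalization.AtPrime (X.presheaf.stalk x) p.asIdeal := hU.isLocalization_stalk ⟨x, hxU⟩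
  let e := (IsLocalization.algEquiv p.asIdeal.primeCompl (Localization.AtPrime p.asIdeal) (X.presheaf.stalk x)).toRingEquiv
  obtain ⟨P, iP, iR, π, hπ⟩ := exists_regular_surjection_atPrime (k := k) φ.toRingHom hφ p.asIdeal
  exact ⟨P, iP, iR, e.toRingHom.comp π, e.surjective.comp hπ⟩

variable (G : Over (Spec (CommRingCat.of k))) [GrpObj G] [LocallyOfFiniteType G.hom]

/-- Over a perfect field the local ring at the unit is a complete intersection. -/
theorem ci_unit [PerfectField k] :
    Pi1.IsCompleteIntersection (G.left.presheaf.stalk (η[G].left (IsLocalRing.closedPoint k))) := by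
  haveI : IsLocallyNoetherian G.left := LocallyOfFiniteType.isLocallyNoetherian G.hom
  obtain ⟨p, hp⟩ := CharP.exists k
  rcases CharP.char_is_prime_or_zero k p with hprime | rfl
  · haveI : Fact p.Prime := ⟨hprime⟩
    obtain ⟨P, _, _, π, hπ⟩ := exists_regular_surjection G.hom (η[G].left (IsLocalRing.closedPoint k))
    exact ci_stalk_unit p G π hπ
  · haveI : CharZero k := CharP.charP_to_charZero k
    haveI : Smooth G.hom := S0353.result k G
    haveI := WeilExt.isRegularLocalRing_stalk_of_smooth G.hom (η[G].left (IsLocalRing.closedPoint k))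
    exact CI2.ci_of_regular

/-- Over an algebraically closed field all local rings are complete intersections. -/
theorem ci_stalk_of_isAlgClosed [IsAlgClosed k] (x : G.left) :
    Pi1.IsCompleteIntersection (G.left.presheaf.stalk x) := by
  haveI : IsLocallyNoetherian G.left := LocallyOfFiniteType.isLocallyNoetherian G.hom
  haveI : JacobsonSpace G.left := LocallyOfFiniteType.jacobsonSpace G.hom
  obtain ⟨c, hxc, hc⟩ := nonempty_inter_closedPoints (Set.singleton_nonempty x).closure
    isClosed_closure.isLocallyClosed
  -- the closed point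
  have hcl : Pi1.IsCompleteIntersection (G.left.presheaf.stalk c) := by
    let a : 𝟙_ (Over (Spec (CommRingCat.of k))) ⟶ G :=
      Over.homMk (pointOfClosedPoint G.hom c hc) (pointOfClosedPoint_comp G.hom c hc)
    let T : G ⟶ G := (toUnit G ≫ a) * 𝟙 G
    let T' : G ⟶ G := (toUnit G ≫ a)⁻¹ * 𝟙 G
    have hT : T ≫ T' = 𝟙 G := by
      show T ≫ ((toUnit G ≫ a)⁻¹ * 𝟙 G) = 𝟙 G
      rw [MonObj.comp_mul, GrpObj.comp_inv, ← Category.assoc, toUnit_unique (T ≫ toUnit G) (toUnit G),
        Category.comp_id, inv_mul_cancel_left]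
    have hT' : T' ≫ T = 𝟙 G := by
      show T' ≫ ((toUnit G ≫ a) * 𝟙 G) = 𝟙 G
      rw [MonObj.comp_mul, ← Category.assoc, toUnit_unique (T' ≫ toUnit G) (toUnit G),
        Category.comp_id, mul_inv_cancel_left]
    haveI : IsIso T := ⟨T', hT, hT'⟩
    haveI : IsIso T.left := inferInstanceAs (IsIso ((Over.forget _).map T))
    have he : T.left (η[G].left (IsLocalRing.closedPoint k)) = c := by
      rw [← Scheme.Hom.comp_apply, ← Over.comp_left]
      have h : η[G] ≫ T = a := by
        show η[G] ≫ ((toUnit G ≫ a) * 𝟙 G) = a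
        rw [MonObj.comp_mul, ← Category.assoc, toUnit_unique (η[G] ≫ toUnit G) (𝟙 _), Category.id_comp,
          Category.comp_id, MonObj.one_eq_one, mul_one]
      rw [h]
      exact pointOfClosedPoint_apply G.hom c hc _
    rw [← he]
    exact S2169.isCI_congr (asIso (T.left.stalkMap (η[G].left (IsLocalRing.closedPoint k)))).commRingCatIsoToRingEquiv (ci_unit G)
  have hsp : x ⤳ c := specializes_iff_mem_closure.2 hxc
  letI := (G.left.presheaf.stalkSpecializes hsp).hom.toAlgebra
  haveI := Cyc26.isLocalization_stalkSpecializes hsp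
  let P := RingHom.ker (Cyc.specMap c x hsp)
  haveI : P.IsPrime := RingHom.ker_isPrime _
  exact S2169.isCI_congr
    (IsLocalization.algEquiv P.primeCompl (Localization.AtPrime P) (G.left.presheaf.stalk x)).toRingEquiv.symm
    (S2168.result hcl P)

/-- All local rings of a group scheme locally of finite type over a field are complete intersections. -/
theorem ci_stalk (x : G.left) : Pi1.IsCompleteIntersection (G.left.presheaf.stalk x) := by
  let φ : CommRingCat.of k ⟶ CommRingCat.of (AlgebraicClosure k) := CommRingCat.ofHom (algebraMap k (AlgebraicClosure k))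
  let F := Over.pullback (Spec.map φ)
  letI : GrpObj (F.obj G) := Functor.grpObjObj
  haveI : LocallyOfFiniteType (F.obj G).hom := inferInstanceAs (LocallyOfFiniteType (pullback.snd G.hom (Spec.map φ)))
  have h := IsPullback.of_hasPullback G.hom (Spec.map φ)
  obtain ⟨z, hz, -⟩ := Scheme.Pullback.exists_preimage_pullback (f := G.hom) (g := Spec.map φ) x
    (IsLocalRing.closedPoint (AlgebraicClosure k)) (Subsingleton.elim (α := PrimeSpectrum k) _ _)
  rw [← hz]
  exact (CI2.ci_stalk_iff_of_isPullback φ h z).2 (ci_stalk_of_isAlgClosed (F.obj G) z)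

/-- A flat group scheme locally of finite presentation is syntomic. -/
theorem isSyntomicMor {S : Scheme.{u}} (G : Over S) [GrpObj G] [Flat G.hom] [LocallyOfFinitePresentation G.hom] :
    Synt.IsSyntomicMor G.hom := by
  refine (S9758.result G.hom).1 ⟨inferInstance, (S8660.result G.hom).2 ⟨inferInstance, inferInstance, fun x => ?_⟩⟩
  let F := Over.pullback (S.fromSpecResidueField (G.hom x))
  letI : GrpObj (F.obj G) := Functor.grpObjObj
  haveI : LocallyOfFiniteType (F.obj G).hom :=
    inferInstanceAs (LocallyOfFiniteType (pullback.snd G.hom (S.fromSpecResidueField (G.hom x))))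
  exact ci_stalk (F.obj G) (G.hom.asFiber x)

end Groth.Agent.GrpCI19
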